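import Groth.Agent.Lib.Algz7.GammaSys

/-!
# Coherent formal modules on an affine scheme from adic systems of finite modules
-/

set_option autoImplicit false
set_option linter.style.haveILetI false
universe u

open CategoryTheory CategoryTheory.Limits AlgebraicGeometry Opposite

namespace GrothLib.Algz7

variable {A : Type u} [CommRing A] [IsNoetherianRing A]

theorem gamma_map_smulMod (M : (Spec (CommRingCat.of A)).Modules) (a : A)
    (x : (moduleSpecΓFunctor (R := CommRingCat.of A)).obj M) :
    ((moduleSpecΓFunctor (R := CommRingCat.of A)).map (@Formal.smulMod A _ _ (specOverSelf A) M a)).hom x = a • x := by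
  letI := specOverSelf A
  exact GrothLib.BCCoh.smulMod_app M a ⊤ x

theorem smul_sect_eq (U : (Spec (CommRingCat.of A)).Opens) (M : (U : Scheme.{u}).Modules) (a : A)
    (x : (moduleSpecΓFunctor (R := CommRingCat.of A)).obj ((Scheme.Modules.pushforward U.ι).obj M)) :
    a • x = (Formal.smulMod A M a).app ⊤ x :=
  (GrothLib.BCCoh.smulMod_app M a ⊤ x).symm

theorem tilde_hom_eq {N : ModuleCat.{u} A} {P : (Spec (CommRingCat.of A)).Modules}
    (φ ψ : (tilde.functor (CommRingCat.of A)).obj N ⟶ P)
    (h : ∀ x, ((tilde.adjunction (R := CommRingCat.of A)).homEquiv N P φ).hom x =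
      ((tilde.adjunction (R := CommRingCat.of A)).homEquiv N P ψ).hom x) : φ = ψ :=
  ((tilde.adjunction (R := CommRingCat.of A)).homEquiv N P).injective (ModuleCat.hom_ext (LinearMap.ext h))

theorem homEquiv_smulMod {N : ModuleCat.{u} A} {P : (Spec (CommRingCat.of A)).Modules}
    (φ : (tilde.functor (CommRingCat.of A)).obj N ⟶ P) (a : A) (x : N) :
    ((tilde.adjunction (R := CommRingCat.of A)).homEquiv N P
      (@Formal.smulMod A _ _ (specOverSelf A) ((tilde.functor (CommRingCat.of A)).obj N) a ≫ φ)).hom x =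
      ((tilde.adjunction (R := CommRingCat.of A)).homEquiv N P φ).hom (a • x) := by
  letI := specOverSelf A
  rw [Adjunction.homEquiv_unit, Adjunction.homEquiv_unit, Functor.map_comp]
  show ((moduleSpecΓFunctor (R := CommRingCat.of A)).map φ).hom
      (((moduleSpecΓFunctor (R := CommRingCat.of A)).map (Formal.smulMod A _ a)).hom _) =
    ((moduleSpecΓFunctor (R := CommRingCat.of A)).map φ).hom
      (((tilde.adjunction (R := CommRingCat.of A)).unit.app N).hom (a • x))
  rw [map_smul]
  exact congrArg _ (gamma_map_smulMod _ a _)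

theorem homEquiv_zero (N : ModuleCat.{u} A) (P : (Spec (CommRingCat.of A)).Modules) (x : N) :
    ((tilde.adjunction (R := CommRingCat.of A)).homEquiv N P 0).hom x = 0 := by
  rw [Adjunction.homEquiv_unit]
  rfl

theorem exists_desc_of_ker_le {M N P : ModuleCat.{u} A} (f : M ⟶ N) (hf : Function.Surjective f.hom)
    (g : M ⟶ P) (h : LinearMap.ker f.hom ≤ LinearMap.ker g.hom) : ∃ χ : N ⟶ P, f ≫ χ = g := by
  refine ⟨ModuleCat.ofHom (((LinearMap.ker f.hom).liftQ g.hom h).comp
    (LinearMap.quotKerEquivOfSurjective f.hom hf).symm.toLinearMap), ModuleCat.hom_ext (LinearMap.ext fun x => ?_)⟩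
  show (LinearMap.ker f.hom).liftQ g.hom h ((LinearMap.quotKerEquivOfSurjective f.hom hf).symm (f.hom x)) = _
  rw [show (LinearMap.quotKerEquivOfSurjective f.hom hf).symm (f.hom x) = Submodule.Quotient.mk x from
    (LinearMap.quotKerEquivOfSurjective f.hom hf).injective (by
      rw [LinearEquiv.apply_symm_apply, LinearMap.quotKerEquivOfSurjective_apply_mk])]
  rfl

theorem killedBy_tilde {J : Ideal A} (N : ModuleCat.{u} A) (h : ∀ a ∈ J, ∀ x : N, a • x = 0) :
    @Formal.KilledBy A _ _ (specOverSelf A) J ((tilde.functor (CommRingCat.of A)).obj N) := by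
  letI := specOverSelf A
  intro a ha
  refine tilde_hom_eq _ _ fun x => ?_
  rw [← Category.comp_id (Formal.smulMod A _ a), homEquiv_smulMod, h a ha x, map_zero, homEquiv_zero]

theorem isQuot_tilde_map {J : Ideal A} {M N : ModuleCat.{u} A} (f : M ⟶ N) (hf : Function.Surjective f.hom)
    (hker : LinearMap.ker f.hom = J • (⊤ : Submodule A M)) :
    @GrothLib.FormalSys.IsQuot A _ _ (specOverSelf A) _ _ J ((tilde.functor (CommRingCat.of A)).map f) := by
  letI := specOverSelf A
  haveI : Epi f := (ModuleCat.epi_iff_surjective f).2 hf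
  haveI hp : (tilde.functor (CommRingCat.of A)).PreservesEpimorphisms :=
    Functor.preservesEpimorphisms_of_adjunction (tilde.adjunction (R := CommRingCat.of A))
  haveI : Epi ((tilde.functor (CommRingCat.of A)).map f) := hp.preserves f
  refine GrothLib.FormalSys.IsQuot.mk' (fun a ha => ?_) ?_
  · refine tilde_hom_eq _ _ fun x => ?_
    rw [homEquiv_smulMod, homEquiv_zero, Adjunction.homEquiv_unit]
    have h0 : f.hom (a • x) = 0 := by
      rw [← LinearMap.mem_ker, hker]
      exact Submodule.smul_mem_smul ha trivial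
    refine (ConcreteCategory.congr_hom ((tilde.adjunction (R := CommRingCat.of A)).unit.naturality f) (a • x)).symm.trans ?_
    exact (congrArg ((tilde.adjunction (R := CommRingCat.of A)).unit.app N).hom h0).trans (map_zero _)
  · let φ := cokernel.π (Formal.smulFamily J ((tilde.functor (CommRingCat.of A)).obj M))
    obtain ⟨χ, hχ⟩ := exists_desc_of_ker_le f hf ((tilde.adjunction (R := CommRingCat.of A)).homEquiv M _ φ) (by
      rw [hker, Submodule.smul_le]
      intro a ha x _
      rw [LinearMap.mem_ker, ← homEquiv_smulMod φ a x,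
        GrothLib.FormalSys.smulFamily_comp_eq_zero_iff.1 (cokernel.condition _) a ha, homEquiv_zero])
    refine ⟨((tilde.adjunction (R := CommRingCat.of A)).homEquiv N _).symm χ,
      tilde_hom_eq _ _ fun x => ?_⟩
    rw [Adjunction.homEquiv_naturality_left, Equiv.apply_symm_apply, hχ]

theorem isCohFormal_tilde (I : Ideal A) (Y : ℕᵒᵖ ⥤ ModuleCat.{u} A)
    (hfin : ∀ n, Module.Finite A (Y.obj (op n)))
    (hkill : ∀ n, ∀ a ∈ I ^ (n + 1), ∀ x : Y.obj (op n), a • x = 0)
    (hsurj : ∀ n, Function.Surjective (Y.map (homOfLE (Nat.le_succ n)).op).hom)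
    (hker : ∀ n, LinearMap.ker (Y.map (homOfLE (Nat.le_succ n)).op).hom =
      I ^ (n + 1) • (⊤ : Submodule A (Y.obj (op (n + 1))))) :
    @Formal.IsCohFormal A _ (Spec (CommRingCat.of A)) (specOverSelf A) I (Y ⋙ tilde.functor (CommRingCat.of A)) := by
  letI := specOverSelf A
  refine ⟨fun n => ?_, fun n => killedBy_tilde _ (hkill n), fun n => isQuot_tilde_map _ (hsurj n) (hker n)⟩
  haveI := hfin n
  exact GrothLib.QCoh.isCoh_tilde_of_finite (R := CommRingCat.of A) (Y.obj (op n))

end GrothLib.Algz7
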