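import Groth.Agent.Lib.FlatBC.Push
import Groth.Agent.Lib.FormalExist7.Pullback

/-!
# Naturality of the base change map
-/

set_option autoImplicit false
set_option linter.style.haveILetI false
universe u

open CategoryTheory CategoryTheory.Limits AlgebraicGeometry Opposite

namespace GrothLib.Algz7

variable {X S X' S' : Scheme.{u}} {f : X ⟶ S} {g : S' ⟶ S} {g' : X' ⟶ X} {f' : X' ⟶ S'}

theorem bcV_naturality (h : IsPullback g' f' f g) {F G : X.Modules} (φ : F ⟶ G) :
    (Scheme.Modules.pushforward f).map φ ≫ AffBC.bcV h G = AffBC.bcV h F ≫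
      (Scheme.Modules.pushforward g).map ((Scheme.Modules.pushforward f').map
        ((Scheme.Modules.pullback g').map φ)) := by
  have n1 := (Scheme.Modules.pullbackPushforwardAdjunction g').unit.naturality φ
  have n2 := (Scheme.Modules.pushforwardComp g' f).hom.naturality ((Scheme.Modules.pullback g').map φ)
  have n3 := (Scheme.Modules.pushforwardCongr h.w).hom.naturality ((Scheme.Modules.pullback g').map φ)
  have n4 := (Scheme.Modules.pushforwardComp f' g).inv.naturality ((Scheme.Modules.pullback g').map φ)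
  simp only [Functor.id_obj, Functor.id_map, Functor.comp_obj, Functor.comp_map] at n1 n2 n3 n4
  simp only [AffBC.bcV, Category.assoc]
  rw [← Functor.map_comp_assoc, n1, Functor.map_comp_assoc, reassoc_of% n2, reassoc_of% n3, n4]

theorem bcMap_naturality (h : IsPullback g' f' f g) {F G : X.Modules} (φ : F ⟶ G) :
    (Scheme.Modules.pullback g).map ((Scheme.Modules.pushforward f).map φ) ≫ AffBC.bcMap h G =
      AffBC.bcMap h F ≫ (Scheme.Modules.pushforward f').map ((Scheme.Modules.pullback g').map φ) := by
  refine ((Scheme.Modules.pullbackPushforwardAdjunction g).homEquiv _ _).injective ?_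
  rw [Adjunction.homEquiv_naturality_left, Adjunction.homEquiv_naturality_right]
  simp only [AffBC.bcMap, Equiv.apply_symm_apply]
  exact bcV_naturality h φ

variable {A : Type u} [CommRing A] {Y : Scheme.{u}} [X.Over (Spec (CommRingCat.of A))]
  [Y.Over (Spec (CommRingCat.of A))] (g₀ : X ⟶ Y)
  (hg₀ : g₀ ≫ (Y ↘ Spec (CommRingCat.of A)) = X ↘ Spec (CommRingCat.of A))

include hg₀ in
theorem isCohFormal_pullback' {I : Ideal A} {G : ℕᵒᵖ ⥤ Y.Modules}
    (hG : Formal.IsCohFormal I G) : Formal.IsCohFormal I (G ⋙ Scheme.Modules.pullback g₀) := by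
  refine ⟨fun n => ?_, fun n a ha => ?_, fun n => ?_⟩
  · haveI := (hG.1 n).1
    haveI := GrothLib.FittSheaf.isQuasicoherent_pullback g₀ (G.obj (op n))
    show Coh.IsCoh ((Scheme.Modules.pullback g₀).obj (G.obj (op n)))
    exact ⟨this, (GrothLib.QCoh.isFiniteType_iff_moduleFinite _).2 fun V hV =>
      GrothLib.FittSheaf.moduleFinite_pullback g₀ (G.obj (op n)) (hG.1 n).2 hV⟩
  · haveI := (Scheme.Modules.pullbackPushforwardAdjunction g₀).left_adjoint_additive
    show Formal.smulMod A ((Scheme.Modules.pullback g₀).obj (G.obj (op n))) a = 0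
    rw [← FormalExist7.pullback_map_smulMod g₀ hg₀, hG.2.1 n a ha]
    exact Functor.map_zero _ _ _
  · exact FormalExist7.isQuot_pullback g₀ hg₀ (hG.2.2 n)

end GrothLib.Algz7
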