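import Groth.Agent.Lib.FormalExist7.EasyLeft

/-!
# Changing the base ring in the formal calculus
-/

set_option autoImplicit false
set_option linter.unusedSectionVars false
universe u

open CategoryTheory CategoryTheory.Limits AlgebraicGeometry Opposite

namespace GrothLib.Algz7

variable {A B : Type u} [CommRing A] [CommRing B] (φ : A →+* B) {X : Scheme.{u}}
  [X.Over (Spec (CommRingCat.of A))] [X.Over (Spec (CommRingCat.of B))]
  (hX : (X ↘ Spec (CommRingCat.of B)) ≫ Spec.map (CommRingCat.ofHom φ) = X ↘ Spec (CommRingCat.of A))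

include hX

theorem smulMod_base (M : X.Modules) (a : A) : Formal.smulMod B M (φ a) = Formal.smulMod A M a := by
  show Formal.smulModΓ M _ = Formal.smulModΓ M _
  congr 1
  show (X ↘ Spec (CommRingCat.of B)).appTop ((Scheme.ΓSpecIso (CommRingCat.of B)).inv (φ a)) =
    (X ↘ Spec (CommRingCat.of A)).appTop ((Scheme.ΓSpecIso (CommRingCat.of A)).inv a)
  rw [← hX, Scheme.Hom.comp_appTop, ConcreteCategory.comp_apply]
  congr 1
  exact ConcreteCategory.congr_hom (Scheme.ΓSpecIso_inv_naturality (CommRingCat.ofHom φ)) a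

theorem comp_eq_zero_base {J : Ideal A} {M N : X.Modules} (f : M ⟶ N)
    (h : ∀ a ∈ J, Formal.smulMod A M a ≫ f = 0) : ∀ b ∈ J.map φ, Formal.smulMod B M b ≫ f = 0 := by
  intro b hb
  rw [Ideal.map] at hb
  induction hb using Submodule.span_induction with
  | mem b hb => obtain ⟨a, ha, rfl⟩ := hb; rw [smulMod_base φ hX]; exact h a ha
  | zero => rw [show Formal.smulMod B M 0 = 0 by
      have h2 := FormalSys.smulMod_add (A := B) (M := M) 0 0
      rw [add_zero] at h2
      exact left_eq_add.1 h2, zero_comp]
  | add x y _ _ hx hy => rw [FormalSys.smulMod_add, Preadditive.add_comp, hx, hy, add_zero]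
  | smul r x _ hx =>
    rw [smul_eq_mul, mul_comm, FormalSys.smulMod_mul, Category.assoc, hx, comp_zero]

theorem killedBy_base_iff (J : Ideal A) (M : X.Modules) : Formal.KilledBy (J.map φ) M ↔ Formal.KilledBy J M := by
  refine ⟨fun h a ha => (smulMod_base φ hX M a).symm.trans (h _ (Ideal.mem_map_of_mem φ ha)), fun h b hb => ?_⟩
  have := comp_eq_zero_base φ hX (𝟙 M) (fun a ha => by rw [h a ha, zero_comp]) b hb
  rwa [Category.comp_id] at this

theorem isQuot_base_iff (J : Ideal A) {M N : X.Modules} (π : M ⟶ N) :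
    FormalSys.IsQuot (J.map φ) π ↔ FormalSys.IsQuot J π := by
  constructor
  · intro h
    haveI := h.epi
    refine FormalSys.IsQuot.mk' (fun a ha => by
      rw [← smulMod_base φ hX M a]; exact h.comp_eq_zero _ (Ideal.mem_map_of_mem φ ha)) ?_
    exact h.exists_desc _ (comp_eq_zero_base φ hX _
      (fun a ha => (FormalSys.IsQuot.cokernelπ J M).comp_eq_zero a ha))
  · intro h
    haveI := h.epi
    refine FormalSys.IsQuot.mk' (comp_eq_zero_base φ hX π fun a ha => h.comp_eq_zero a ha) ?_
    exact h.exists_desc _ fun a ha => by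
      rw [← smulMod_base φ hX M a]
      exact (FormalSys.IsQuot.cokernelπ (J.map φ) M).comp_eq_zero _ (Ideal.mem_map_of_mem φ ha)

theorem isCohFormal_base_iff (I : Ideal A) (G : ℕᵒᵖ ⥤ X.Modules) :
    Formal.IsCohFormal (I.map φ) G ↔ Formal.IsCohFormal I G := by
  unfold Formal.IsCohFormal
  simp only [← Ideal.map_pow, killedBy_base_iff φ hX]
  refine and_congr_right' (and_congr_right' (forall_congr' fun n => ?_))
  have := isQuot_base_iff φ hX (I ^ (n + 1)) (G.map (homOfLE (Nat.le_succ n)).op)
  rw [Ideal.map_pow] at this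
  exact this

theorem nonempty_completion_base (I : Ideal A) (F : X.Modules) :
    Nonempty (Formal.completion (I.map φ) F ≅ Formal.completion I F) :=
  FormalSys.exists_completion_iso (fun n => FormalExist7.qπ I F n)
    (fun n => by rw [← Ideal.map_pow, isQuot_base_iff φ hX]; exact FormalExist7.isQuot_qπ I F n)
    (fun n => FormalExist7.qπ_trans I F (Nat.le_succ n))

end GrothLib.Algz7
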