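import Groth.Agent.Lib.FormalExist7.Induction
import Groth.Agent.Lib.FormalExist7.LimitModule
import Groth.Agent.Lib.QCoh.TildeFinite
import Groth.Prelude.Def_Algz

/-!
# Global sections of a coherent formal module on an affine scheme
-/

set_option autoImplicit false
set_option linter.style.haveILetI false
universe u

open CategoryTheory CategoryTheory.Limits AlgebraicGeometry Opposite

namespace GrothLib.Algz7

variable {A : Type u} [CommRing A] [IsNoetherianRing A] {I : Ideal A}

/-- The structure of `Spec A` over itself. -/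
@[reducible] noncomputable def specOverSelf (A : Type u) [CommRing A] :
    (Spec (CommRingCat.of A)).Over (Spec (CommRingCat.of A)) := ⟨𝟙 (Spec (CommRingCat.of A))⟩

theorem gammaSys_props {G : ℕᵒᵖ ⥤ (Spec (CommRingCat.of A)).Modules}
    (hG : @Formal.IsCohFormal A _ (Spec (CommRingCat.of A)) (specOverSelf A) I G) {q n : ℕ} (h : q ≤ n) :
    Function.Surjective ((G ⋙ moduleSpecΓFunctor (R := CommRingCat.of A)).map (homOfLE h).op).hom ∧
      LinearMap.ker ((G ⋙ moduleSpecΓFunctor (R := CommRingCat.of A)).map (homOfLE h).op).hom =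
        I ^ (q + 1) • (⊤ : Submodule A ↑((G ⋙ moduleSpecΓFunctor (R := CommRingCat.of A)).obj (op n))) := by
  letI := specOverSelf A
  have key := GrothLib.FormalFn.app_isQuot (hG.1 n) (GrothLib.FormalSys.isQuot_map hG h)
    (V := (⊤ : (Spec (CommRingCat.of A)).Opens)) (isAffineOpen_top _)
  exact ⟨key.1, Submodule.ext fun z => key.2 z⟩

theorem gammaSys_finite {G : ℕᵒᵖ ⥤ (Spec (CommRingCat.of A)).Modules}
    (hG : @Formal.IsCohFormal A _ (Spec (CommRingCat.of A)) (specOverSelf A) I G) (n : ℕ) :
    Module.Finite A ↑((G ⋙ moduleSpecΓFunctor (R := CommRingCat.of A)).obj (op n)) := by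
  letI := specOverSelf A
  haveI := (hG.1 n).1
  exact GrothLib.QCoh.moduleFinite_top_spec (R := CommRingCat.of A) (G.obj (op n)) (hG.1 n).2

end GrothLib.Algz7
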