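import Groth.Agent.Lib.Algz7.UnitIso
import Groth.Agent.Lib.AlgSp.SliceLemmas
import Mathlib.RingTheory.AdicCompletion.Algebra
import Mathlib.RingTheory.AdicCompletion.Noetherian

/-!
# The completion is an isomorphism over the thickenings
-/

set_option autoImplicit false
set_option linter.style.haveILetI false
universe u

open CategoryTheory CategoryTheory.Limits AlgebraicGeometry Opposite

namespace GrothLib.Algz7

variable {A : Type u} [CommRing A]

theorem isIsoOver_morphismRestrict {S S' : Scheme.{u}} [S.Over (Spec (CommRingCat.of A))] {g : S' ⟶ S}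
    {J : Ideal A} (hg : IsIsoOver J g) (U : S.Opens) [(U : Scheme.{u}).Over (Spec (CommRingCat.of A))]
    (hU : U.ι ≫ (S ↘ Spec (CommRingCat.of A)) = (U : Scheme.{u}) ↘ Spec (CommRingCat.of A)) :
    IsIsoOver J (g ∣_ U) := by
  intro Z z hz
  rw [← hU, ← Category.assoc] at hz
  obtain ⟨z₀, hz₀⟩ := hg Z (z ≫ U.ι) hz
  have hsq := (isPullback_morphismRestrict g U).flip
  have hw : z₀ ≫ g = z ≫ U.ι := hz₀.w.symm.trans (Category.id_comp _)
  refine ⟨hsq.lift z₀ z hw, ?_⟩
  have hbig : IsPullback (hsq.lift z₀ z hw ≫ (g ⁻¹ᵁ U).ι) (𝟙 Z) g (z ≫ U.ι) := by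
    rw [hsq.lift_fst]
    exact hz₀.flip
  exact (IsPullback.of_right hbig (by rw [hsq.lift_snd, Category.id_comp]) hsq).flip

theorem bijective_quotientMap_adicCompletion {I : Ideal A} (hI : I.FG) (n : ℕ) :
    Function.Bijective (Ideal.quotientMap ((I ^ n).map (algebraMap A (AdicCompletion I A)))
      (algebraMap A (AdicCompletion I A)) Ideal.le_comap_map) := by
  have hker : ∀ x ∈ (I ^ n).map (algebraMap A (AdicCompletion I A)), AdicCompletion.evalₐ I n x = 0 := by
    intro x hx
    refine (Ideal.map_le_iff_le_comap (K := RingHom.ker (AdicCompletion.evalₐ I n).toRingHom)).2 (fun a ha => ?_) hx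
    show AdicCompletion.evalₐ I n (algebraMap A _ a) = 0
    rw [AlgHom.commutes]
    exact Ideal.Quotient.eq_zero_iff_mem.2 ha
  refine ⟨(injective_iff_map_eq_zero _).2 fun x hx => ?_, fun y => ?_⟩
  · obtain ⟨a, rfl⟩ := Ideal.Quotient.mk_surjective x
    rw [Ideal.quotientMap_mk, Ideal.Quotient.eq_zero_iff_mem] at hx
    have := hker _ hx
    rwa [AlgHom.commutes] at this
  · obtain ⟨x, rfl⟩ := Ideal.Quotient.mk_surjective y
    obtain ⟨a, ha⟩ := Ideal.Quotient.mk_surjective (AdicCompletion.evalₐ I n x)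
    refine ⟨Ideal.Quotient.mk _ a, ?_⟩
    rw [Ideal.quotientMap_mk, Ideal.Quotient.eq]
    have h0 : AdicCompletion.evalₐ I n (algebraMap A (AdicCompletion I A) a - x) = 0 := by
      rw [map_sub, AlgHom.commutes, ← ha]
      exact sub_self _
    have h1 : AdicCompletion.eval I A n (algebraMap A (AdicCompletion I A) a - x) = 0 := by
      rw [← AdicCompletion.factor_evalₐ_eq_eval (h := by rw [smul_eq_mul, Ideal.mul_top]), h0, map_zero]
    rw [← LinearMap.mem_ker, ← AdicCompletion.pow_smul_top_eq_ker_eval hI] at h1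
    exact (Ideal.smul_top_eq_map (I ^ n)).le h1

theorem isIsoOver_completion {I : Ideal A} (hI : I.FG) (n : ℕ) :
    @IsIsoOver A _ (I ^ n) (Spec (CommRingCat.of A)) _ ⟨𝟙 (Spec (CommRingCat.of A))⟩
      (Spec.map (CommRingCat.ofHom (algebraMap A (AdicCompletion I A)))) := by
  letI : (Spec (CommRingCat.of A)).Over (Spec (CommRingCat.of A)) := ⟨𝟙 (Spec (CommRingCat.of A))⟩
  intro Z z hz
  haveI : IsClosedImmersion (Spec.map (CommRingCat.ofHom (Ideal.Quotient.mk (I ^ n)))) :=
    IsClosedImmersion.spec_of_surjective _ Ideal.Quotient.mk_surjective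
  have hz' : (Spec.map (CommRingCat.ofHom (Ideal.Quotient.mk (I ^ n)))).ker ≤ z.ker := by
    have e : z ≫ (Spec (CommRingCat.of A) ↘ Spec (CommRingCat.of A)) = z := Category.comp_id z
    rw [e] at hz
    exact hz
  let w := IsClosedImmersion.lift (Spec.map (CommRingCat.ofHom (Ideal.Quotient.mk (I ^ n)))) z hz'
  have hw : w ≫ Spec.map (CommRingCat.ofHom (Ideal.Quotient.mk (I ^ n))) = z := IsClosedImmersion.lift_fac _ _ _
  let φ := CommRingCat.ofHom (algebraMap A (AdicCompletion I A))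
  have hq := GrothLib.AlgSp.isPullback_SpecMap_quotient φ (I ^ n)
  haveI : IsIso (CommRingCat.ofHom (Ideal.quotientMap ((I ^ n).map φ.hom) φ.hom Ideal.le_comap_map)) :=
    (ConcreteCategory.isIso_iff_bijective _).2 (bijective_quotientMap_adicCompletion hI n)
  let e := asIso (Spec.map (CommRingCat.ofHom (Ideal.quotientMap ((I ^ n).map φ.hom) φ.hom Ideal.le_comap_map)))
  have h1 : IsPullback (𝟙 Z) w w (𝟙 _) := IsPullback.of_horiz_isIso ⟨by simp⟩
  have h2 : IsPullback (𝟙 (Spec (CommRingCat.of (A ⧸ I ^ n)))) (e.inv ≫ Spec.map (CommRingCat.ofHom (Ideal.Quotient.mk ((I ^ n).map φ.hom))))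
      (Spec.map (CommRingCat.ofHom (Ideal.Quotient.mk (I ^ n)))) (Spec.map φ) :=
    hq.flip.of_iso e (Iso.refl _) (Iso.refl _) (Iso.refl _) (by simp [e]) (by simp [e]) (by simp) (by simp)
  exact ⟨_, hw ▸ h1.paste_vert h2⟩

end GrothLib.Algz7
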