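import Groth.Agent.Lib.Algz7.UnitIso
import Groth.Agent.Lib.FormalExist7.Levels
import Groth.Agent.Lib.FSchSys.Descent
import Mathlib.AlgebraicGeometry.Morphisms.FlatMono

/-!
# Flat morphisms which are isomorphisms modulo `I`
-/

set_option autoImplicit false
set_option linter.style.haveILetI false
universe u

open CategoryTheory CategoryTheory.Limits AlgebraicGeometry Opposite

namespace GrothLib.Algz7

variable {A : Type u} [CommRing A]

theorem isIsoOver_of_flat {S S' : Scheme.{u}} [S.Over (Spec (CommRingCat.of A))] [IsLocallyNoetherian S]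
    (g : S' ⟶ S) [Flat g] (I : Ideal A)
    (h0 : IsIso (pullback.snd g (CohB1.thickι (S ↘ Spec (CommRingCat.of A)) I 0))) (n : ℕ) :
    IsIsoOver (I ^ (n + 1)) g := by
  let F := S ↘ Spec (CommRingCat.of A)
  haveI := fun k => FormalExist7.isClosedImmersion_thickι F I k
  haveI := fun k => FormalExist7.isClosedImmersion_specQuot I k
  let i₀ := CohB1.thickι F I 0
  let iN := CohB1.thickι F I n
  haveI : IsClosedImmersion i₀ := FormalExist7.isClosedImmersion_thickι F I 0
  haveI : IsClosedImmersion iN := FormalExist7.isClosedImmersion_thickι F I n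
  have hle : iN.ker ≤ i₀.ker := by
    rw [FormalExist7.ker_thickι, FormalExist7.ker_thickι]
    refine (Scheme.IdealSheafData.map_gc F).monotone_l ?_
    exact Scheme.Hom.le_ker_comp _ _ |>.trans_eq (congrArg Scheme.Hom.ker (show
      Spec.map (CommRingCat.ofHom (Ideal.Quotient.factor
        (Ideal.pow_le_pow_right (Nat.succ_le_succ (Nat.zero_le n)) : I ^ (n + 1) ≤ I ^ (0 + 1)))) ≫
        Spec.map (CommRingCat.ofHom (Ideal.Quotient.mk (I ^ (n + 1)))) =
        Spec.map (CommRingCat.ofHom (Ideal.Quotient.mk (I ^ (0 + 1)))) by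
      rw [← Spec.map_comp]; rfl))
  let iY := IsClosedImmersion.lift iN i₀ hle
  have hiY : iY ≫ iN = i₀ := IsClosedImmersion.lift_fac _ _ _
  haveI : IsClosedImmersion (iY ≫ iN) := hiY.symm ▸ inferInstance
  haveI : IsClosedImmersion iY := IsClosedImmersion.of_comp iY iN
  haveI : Surjective iY := ⟨fun y => by
    have hy : iN y ∈ Set.range i₀ := by
      rw [FormalExist7.range_thickι]
      exact (FormalExist7.range_thickι F I n).le ⟨y, rfl⟩
    obtain ⟨x, hx⟩ := hy
    exact ⟨x, iN.isClosedEmbedding.injective (((congrArg (fun φ : _ ⟶ S => φ x) hiY)).trans hx)⟩⟩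
  let f := pullback.snd g iN
  haveI : IsLocallyNoetherian (CohB1.thick F I n) := LocallyOfFiniteType.isLocallyNoetherian iN
  let iX : pullback g i₀ ⟶ pullback g iN :=
    pullback.lift (pullback.fst g i₀) (pullback.snd g i₀ ≫ iY) (by rw [Category.assoc, hiY, pullback.condition])
  have hsq : IsPullback iX (pullback.snd g i₀) f iY := by
    refine IsPullback.of_right ?_ (pullback.lift_snd _ _ _) (IsPullback.of_hasPullback g iN)
    rw [pullback.lift_fst, hiY]
    exact IsPullback.of_hasPullback g i₀
  haveI : IsClosedImmersion (pullback.snd g i₀) := by haveI := h0; infer_instance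
  haveI : IsClosedImmersion f := FSchSys.isClosedImmersion_of_isPullback hsq
    fun U => FSchSys.isNilpotent_ker_ideal iY U
  haveI : Surjective f := ⟨fun y => by
    obtain ⟨x, rfl⟩ := iY.surjective y
    haveI := h0
    obtain ⟨x', rfl⟩ := (pullback.snd g i₀).surjective x
    exact ⟨iX x', congrArg (fun φ : _ ⟶ CohB1.thick F I n => φ x') hsq.w⟩⟩
  haveI : Flat f := MorphismProperty.pullback_snd (P := @Flat) _ _ ‹Flat g›
  haveI : IsIso f := Flat.isIso_of_surjective_of_mono f
  intro Z z hz
  have hzN : iN.ker ≤ z.ker := by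
    rw [FormalExist7.ker_thickι, ← Scheme.IdealSheafData.le_map_iff_comap_le, Scheme.IdealSheafData.map_ker]
    exact hz
  let w := IsClosedImmersion.lift iN z hzN
  have hw : w ≫ iN = z := IsClosedImmersion.lift_fac _ _ _
  have h1 : IsPullback (𝟙 Z) w w (𝟙 _) := IsPullback.of_horiz_isIso ⟨by simp⟩
  have h2 : IsPullback (𝟙 _) (inv f ≫ pullback.fst g iN) iN g :=
    (IsPullback.of_hasPullback g iN).flip.of_iso (asIso f) (Iso.refl _) (Iso.refl _) (Iso.refl _)
      (by simp [f]) (by simp [f]) (by simp) (by simp)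
  exact ⟨_, hw ▸ h1.paste_vert h2⟩

end GrothLib.Algz7
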