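import Groth.Agent.Lib.FormalExist7.Pullback
import Groth.Agent.Lib.OX.PullbackFlat
import Groth.Agent.Lib.Algz7.ChangeBase
import Groth.Prelude.Def_Formal2

/-!
# Flat pullback of maps with kernel and cokernel killed by a power of `I`
-/

set_option autoImplicit false
set_option linter.style.haveILetI false
universe u

open CategoryTheory CategoryTheory.Limits AlgebraicGeometry Opposite

namespace GrothLib.Algz7

variable {A : Type u} [CommRing A] {X : Scheme.{u}} [X.Over (Spec (CommRingCat.of A))]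

theorem killedBy_iso {J : Ideal A} {M N : X.Modules} (e : M ≅ N) (h : Formal.KilledBy J M) :
    Formal.KilledBy J N := FormalSys.killedBy_of_epi e.hom h

theorem kerCokerKilled_comp_iso {I : Ideal A} {F F' G G' : ℕᵒᵖ ⥤ X.Modules} (e : F' ≅ F) (α : F ⟶ G) (e' : G ≅ G')
    (h : Formal2.KerCokerKilledByIPow I α) : Formal2.KerCokerKilledByIPow I (e.hom ≫ α ≫ e'.hom) := by
  obtain ⟨t, ht⟩ := h
  refine ⟨t, fun n => ⟨?_, ?_⟩⟩
  · exact killedBy_iso ((kernelIsIsoComp (e.hom.app (op n)) (α.app (op n) ≫ e'.hom.app (op n))) ≪≫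
      kernelCompMono (α.app (op n)) (e'.hom.app (op n))).symm (ht n).1
  · exact killedBy_iso ((cokernelEpiComp (e.hom.app (op n)) (α.app (op n) ≫ e'.hom.app (op n))) ≪≫
      cokernelCompIsIso (α.app (op n)) (e'.hom.app (op n))).symm (ht n).2

variable {Y : Scheme.{u}} [Y.Over (Spec (CommRingCat.of A))] (f : X ⟶ Y)
  (hf : f ≫ (Y ↘ Spec (CommRingCat.of A)) = X ↘ Spec (CommRingCat.of A))

include hf in
theorem killedBy_pullback {J : Ideal A} {M : Y.Modules} (h : Formal.KilledBy J M) :
    Formal.KilledBy J ((Scheme.Modules.pullback f).obj M) := fun a ha => by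
  haveI := (Scheme.Modules.pullbackPushforwardAdjunction f).left_adjoint_additive
  rw [← FormalExist7.pullback_map_smulMod f hf, h a ha]
  exact Functor.map_zero _ _ _

include hf in
theorem kerCokerKilled_pullback [Flat f] {I : Ideal A} {F G : ℕᵒᵖ ⥤ Y.Modules} (α : F ⟶ G)
    (h : Formal2.KerCokerKilledByIPow I α) :
    Formal2.KerCokerKilledByIPow I (Functor.whiskerRight α (Scheme.Modules.pullback f)) := by
  obtain ⟨t, ht⟩ := h
  haveI := OX.additive_pullback f
  haveI := OX.preservesFiniteLimits_pullback_of_flat f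
  haveI : PreservesColimitsOfSize.{0, 0} (Scheme.Modules.pullback f) :=
    (Scheme.Modules.pullbackPushforwardAdjunction f).leftAdjoint_preservesColimits
  exact ⟨t, fun n =>
    ⟨killedBy_iso (PreservesKernel.iso (Scheme.Modules.pullback f) (α.app (op n))) (killedBy_pullback f hf (ht n).1),
     killedBy_iso (PreservesCokernel.iso (Scheme.Modules.pullback f) (α.app (op n))) (killedBy_pullback f hf (ht n).2)⟩⟩

theorem kerCokerKilled_base {B : Type u} [CommRing B] (φ : A →+* B) [X.Over (Spec (CommRingCat.of B))]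
    (hX : (X ↘ Spec (CommRingCat.of B)) ≫ Spec.map (CommRingCat.ofHom φ) = X ↘ Spec (CommRingCat.of A))
    {I : Ideal A} {F G : ℕᵒᵖ ⥤ X.Modules} (α : F ⟶ G) (h : Formal2.KerCokerKilledByIPow I α) :
    Formal2.KerCokerKilledByIPow (I.map φ) α := by
  obtain ⟨t, ht⟩ := h
  refine ⟨t, fun n => ?_⟩
  rw [← Ideal.map_pow]
  exact ⟨(killedBy_base_iff φ hX _ _).2 (ht n).1, (killedBy_base_iff φ hX _ _).2 (ht n).2⟩

end GrothLib.Algz7
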