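import Groth.Prelude.Def_ARSys
import Mathlib.Algebra.Category.ModuleCat.Abelian
import Mathlib.Algebra.Category.ModuleCat.Limits
import Mathlib.Algebra.Category.ModuleCat.EpiMono
import Mathlib.CategoryTheory.Functor.OfSequence

/-!
# Mittag-Leffler systems of modules
-/

set_option autoImplicit false
universe u

open CategoryTheory CategoryTheory.Limits Opposite

namespace GrothLib.Algz7

variable {R : Type u} [Ring R]

theorem range_eq_of_imageSubobject_eq {X X' Y : ModuleCat.{u} R} (f : X ⟶ Y) (g : X' ⟶ Y)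
    (h : imageSubobject f = imageSubobject g) : LinearMap.range f.hom = LinearMap.range g.hom := by
  have key : ∀ {Z : ModuleCat.{u} R} (k : Z ⟶ Y), LinearMap.range k.hom = LinearMap.range (imageSubobject k).arrow.hom := by
    intro Z k
    conv_lhs => rw [← imageSubobject_arrow_comp k]
    rw [ModuleCat.hom_comp, LinearMap.range_comp_of_range_eq_top]
    exact LinearMap.range_eq_top.2 ((ModuleCat.epi_iff_surjective (factorThruImageSubobject k)).1 inferInstance)
  rw [key f, key g, h]

/-- A compatible family gives an element of the limit. -/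
theorem exists_limit_π_eq (X : ℕᵒᵖ ⥤ ModuleCat.{u} R) (y : ∀ n, X.obj (op n))
    (hy : ∀ n, (X.map (homOfLE (Nat.le_succ n)).op).hom (y (n + 1)) = y n) :
    ∃ x : (limit X : ModuleCat.{u} R), ∀ n, (limit.π X (op n)).hom x = y n := by
  let c : Cone X :=
    { pt := ModuleCat.of R R
      π := NatTrans.ofOpSequence (fun n => ModuleCat.ofHom (LinearMap.toSpanSingleton R _ (y n))) fun n => by
        refine ModuleCat.hom_ext (LinearMap.ext_ring ?_)
        show LinearMap.toSpanSingleton R (X.obj (op n)) (y n) 1 =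
          (X.map (homOfLE (Nat.le_add_right n 1)).op).hom (LinearMap.toSpanSingleton R (X.obj (op (n + 1))) (y (n + 1)) 1)
        rw [LinearMap.toSpanSingleton_apply, LinearMap.toSpanSingleton_apply, one_smul, one_smul]
        exact (hy n).symm }
  refine ⟨(limit.lift X c).hom (1 : R), fun n => ?_⟩
  refine (ConcreteCategory.congr_hom (limit.lift_π c (op n)) (1 : R)).trans ?_
  exact (LinearMap.toSpanSingleton_apply R _ (y n) 1).trans (one_smul R (y n))

theorem limit_ext (X : ℕᵒᵖ ⥤ ModuleCat.{u} R) (x y : (limit X : ModuleCat.{u} R))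
    (h : ∀ n, (limit.π X (op n)).hom x = (limit.π X (op n)).hom y) : x = y :=
  Concrete.limit_ext X x y fun j => h j.unop

/-- The images of a Mittag-Leffler system stabilise at the image of the limit. -/
theorem exists_range_tr_eq_range_π (X : ℕᵒᵖ ⥤ ModuleCat.{u} R) (h : ARSys.IsML X) (n : ℕ) :
    ∃ (m : ℕ) (hm : n ≤ m), ∀ (q : ℕ) (hq : m ≤ q),
      LinearMap.range (ARSys.tr X (hm.trans hq)).hom = LinearMap.range (limit.π X (op n)).hom := by
  choose r hr using h
  let S : ∀ j, Submodule R (X.obj (op j)) := fun j => LinearMap.range (ARSys.shiftMap X (r j) j).hom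
  have hS : ∀ (j q : ℕ) (hq : j + r j ≤ q), LinearMap.range (ARSys.tr X ((Nat.le_add_right j (r j)).trans hq)).hom = S j := by
    intro j q hq
    obtain ⟨t, rfl⟩ : ∃ t, q = j + t := ⟨q - j, by omega⟩
    exact range_eq_of_imageSubobject_eq (ARSys.shiftMap X t j) _ (hr j t (by omega))
  have htr : ∀ {a b c : ℕ} (hab : a ≤ b) (hbc : b ≤ c),
      ARSys.tr X hbc ≫ ARSys.tr X hab = ARSys.tr X (hab.trans hbc) := fun hab hbc => (X.map_comp _ _).symm
  have hlift : ∀ j (z : S j), ∃ w : S (j + 1), (ARSys.tr X (Nat.le_succ j)).hom w.1 = z.1 := by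
    intro j z
    have hz : z.1 ∈ LinearMap.range (ARSys.tr X ((Nat.le_add_right j (r j)).trans
        (le_max_left (j + r j) (j + 1 + r (j + 1))))).hom :=
      (hS j _ (le_max_left _ _)).symm ▸ z.2
    obtain ⟨v, hv⟩ := hz
    have hq : j + 1 + r (j + 1) ≤ max (j + r j) (j + 1 + r (j + 1)) := le_max_right _ _
    refine ⟨⟨(ARSys.tr X ((Nat.le_add_right (j + 1) (r (j + 1))).trans hq)).hom v, ?_⟩, ?_⟩
    · rw [← hS (j + 1) _ hq]; exact ⟨v, rfl⟩
    · exact (ConcreteCategory.congr_hom (htr (Nat.le_succ j) ((Nat.le_add_right (j + 1) (r (j + 1))).trans hq)) v).trans hv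
  choose w hw using hlift
  refine ⟨n + r n, Nat.le_add_right _ _, fun q hq => le_antisymm ?_ ?_⟩
  · rw [hS n q hq]
    intro z hz
    let y' : ∀ t, S (n + t) := fun t => Nat.rec (motive := fun t => S (n + t)) ⟨z, hz⟩ (fun t p => w (n + t) p) t
    let y : ∀ j, X.obj (op j) := fun j => (ARSys.tr X (Nat.le_add_left j n)).hom (y' j).1
    obtain ⟨x, hx⟩ := exists_limit_π_eq X y fun j => by
      show (X.map (homOfLE (Nat.le_succ j)).op).hom ((ARSys.tr X (Nat.le_add_left (j + 1) n)).hom (y' (j + 1)).1) =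
        (ARSys.tr X (Nat.le_add_left j n)).hom (y' j).1
      rw [← hw (n + j) (y' j)]
      exact ConcreteCategory.congr_hom ((htr (Nat.le_succ j) (Nat.le_add_left (j + 1) n)).trans
        (htr (Nat.le_add_left j n) (Nat.le_succ (n + j))).symm) (y' (j + 1)).1
    refine ⟨x, (hx n).trans ?_⟩
    have key : ∀ t, (ARSys.tr X (Nat.le_add_right n t)).hom (y' t).1 = z := by
      intro t
      induction t with
      | zero => exact ConcreteCategory.congr_hom (X.map_id _) z
      | succ t ih =>
        refine Eq.trans ?_ ih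
        rw [← hw (n + t) (y' t)]
        exact ConcreteCategory.congr_hom (htr (Nat.le_add_right n t) (Nat.le_succ (n + t))).symm (y' (t + 1)).1
    exact key n
  · rintro _ ⟨x, rfl⟩
    exact ⟨(limit.π X (op q)).hom x, ConcreteCategory.congr_hom (limit.w X (homOfLE ((Nat.le_add_right n (r n)).trans hq)).op) x⟩

theorem epi_map_comp_of_range_le {D : Type*} [Category D] (F : ModuleCat.{u} R ⥤ D) [F.PreservesEpimorphisms]
    {L M Y : ModuleCat.{u} R} {Z : D} (f : L ⟶ Y) (g : M ⟶ Y) (ε : F.obj Y ⟶ Z)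
    (h : LinearMap.range g.hom ≤ LinearMap.range f.hom) (hg : Epi (F.map g ≫ ε)) : Epi (F.map f ≫ ε) := by
  let ι : ModuleCat.of R (LinearMap.range f.hom) ⟶ Y := ModuleCat.ofHom (LinearMap.range f.hom).subtype
  let e : L ⟶ ModuleCat.of R (LinearMap.range f.hom) := ModuleCat.ofHom f.hom.rangeRestrict
  let e' : M ⟶ ModuleCat.of R (LinearMap.range f.hom) :=
    ModuleCat.ofHom (g.hom.codRestrict _ fun z => h ⟨z, rfl⟩)
  haveI : Epi e := (ModuleCat.epi_iff_surjective _).2 (LinearMap.surjective_rangeRestrict _)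
  haveI : Epi (F.map g ≫ ε) := hg
  haveI : Epi (F.map ι ≫ ε) := epi_of_epi_fac (f := F.map e') (h := F.map g ≫ ε)
    (by rw [← Category.assoc, ← F.map_comp]; rfl)
  have h2 : F.map f ≫ ε = F.map e ≫ F.map ι ≫ ε := by rw [← Category.assoc, ← F.map_comp]; rfl
  rw [h2]
  exact epi_comp _ _

end GrothLib.Algz7
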