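import Groth.Agent.Lib.FormalExist7.Extend
import Groth.Prelude.Def_Algz
import Mathlib.AlgebraicGeometry.Modules.Tilde

/-!
# Restricting the system of sections back to the open
-/

set_option autoImplicit false
universe u

open CategoryTheory CategoryTheory.Limits AlgebraicGeometry Opposite

namespace GrothLib.Algz7

variable {A : Type u} [CommRing A] (U : (Spec (CommRingCat.of A)).Opens)

/-- The map to a module on `U` from the restriction of the tilde of its sections. -/
noncomputable def sectCounit (M : (U : Scheme.{u}).Modules) :
    (Scheme.Modules.restrictFunctor U.ι).obj ((tilde.functor (CommRingCat.of A)).obj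
      ((moduleSpecΓFunctor (R := CommRingCat.of A)).obj ((Scheme.Modules.pushforward U.ι).obj M))) ⟶ M :=
  (Scheme.Modules.restrictFunctor U.ι).map
      (Scheme.Modules.fromTildeΓ (R := CommRingCat.of A) ((Scheme.Modules.pushforward U.ι).obj M)) ≫
    (Scheme.Modules.restrictAdjunction U.ι).counit.app M

@[reassoc]
theorem sectCounit_naturality {M N : (U : Scheme.{u}).Modules} (φ : M ⟶ N) :
    (Scheme.Modules.restrictFunctor U.ι).map ((tilde.functor (CommRingCat.of A)).map
      ((moduleSpecΓFunctor (R := CommRingCat.of A)).map ((Scheme.Modules.pushforward U.ι).map φ))) ≫ sectCounit U N =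
      sectCounit U M ≫ φ := by
  have h1 := (Scheme.Modules.fromTildeΓNatTrans (R := CommRingCat.of A)).naturality
    ((Scheme.Modules.pushforward U.ι).map φ)
  have h2 := (Scheme.Modules.restrictAdjunction U.ι).counit.naturality φ
  unfold sectCounit
  refine (Category.assoc _ _ _).symm.trans ?_
  refine (congrArg (· ≫ _) (((Scheme.Modules.restrictFunctor U.ι).map_comp _ _).symm.trans
    ((congrArg (Scheme.Modules.restrictFunctor U.ι).map h1).trans
      ((Scheme.Modules.restrictFunctor U.ι).map_comp _ _)))).trans ?_
  exact (Category.assoc _ _ _).trans ((congrArg (_ ≫ ·) h2).trans (Category.assoc _ _ _).symm)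

theorem isIso_sectCounit [IsNoetherianRing A] (M : (U : Scheme.{u}).Modules) [M.IsQuasicoherent] :
    IsIso (sectCounit U M) := by
  haveI := GrothLib.QCoh.isQuasicoherent_pushforward U.ι M
  have hF : IsIso (Scheme.Modules.fromTildeΓ (R := CommRingCat.of A) ((Scheme.Modules.pushforward U.ι).obj M)) :=
    Scheme.Modules.isIso_fromTildeΓ_of_isQuasicoherent (R := CommRingCat.of A) _
  haveI := GrothLib.K0Sub.isIso_counit U.ι M
  exact IsIso.comp_isIso'
    ((Scheme.Modules.restrictFunctor U.ι).mapIso (@asIso _ _ _ _ _ hF)).isIso_hom inferInstance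

end GrothLib.Algz7
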