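import Groth.Agent.Lib.AffBC.Basic
import Groth.Agent.Lib.FormalExist7.IdealSys
import Groth.Agent.Lib.FormalExist7.ThickAlg
import Groth.Agent.Lib.FormalExist7.Pullback
import Groth.Agent.Lib.FormalExist7.PushTwist
import Groth.Agent.Lib.K0Sub.Killed
import Groth.Agent.Lib.FormalFn.Main

/-!
# Modules killed by a power of `I` along a morphism which is an isomorphism over the thickenings
-/

set_option autoImplicit false
set_option linter.style.haveILetI false
set_option linter.unusedSectionVars false
universe u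

open CategoryTheory CategoryTheory.Limits AlgebraicGeometry Opposite TopologicalSpace
open Scheme.Modules (pushforward pullbackPushforwardAdjunction)

namespace GrothLib.Algz7

variable {A : Type u} [CommRing A]

/-- A module killed by `J` is killed by the ideal sheaf of the multiples of `J`. -/
theorem killedByIdeal_baseIdeal {X : Scheme.{u}} [X.Over (Spec (CommRingCat.of A))] {J : Ideal A}
    {M : X.Modules} (h : Formal.KilledBy J M) : ClSub.KilledByIdeal (FormalExist7.baseIdeal X J) M := by
  intro U a ha m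
  rw [FormalExist7.ideal_baseIdeal, Ideal.map] at ha
  induction ha using Submodule.span_induction with
  | mem b hb =>
    obtain ⟨c, hc, rfl⟩ := hb
    have e : (Formal.smulMod A M c).app U.1 m = FormalFun.toSec A U.1 c • m := Coh.smulAb_app M _ (op U.1) m
    exact e.symm.trans (by rw [h c hc]; rfl)
  | zero => exact zero_smul _ m
  | add x y _ _ hx hy => rw [add_smul, hx, hy, add_zero]
  | smul r x _ hx => rw [smul_eq_mul, mul_smul, hx, smul_zero]

/-- `g` is an isomorphism over every scheme over the base killed by the ideal `J`. -/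
def IsIsoOver (J : Ideal A) {S S' : Scheme.{u}} [S.Over (Spec (CommRingCat.of A))] (g : S' ⟶ S) : Prop :=
  ∀ (Z : Scheme.{u}) (z : Z ⟶ S), FSch.idealSpec A J ≤ (z ≫ (S ↘ Spec (CommRingCat.of A))).ker →
    ∃ z' : Z ⟶ S', IsPullback (𝟙 Z) z' z g

theorem idealSpec_le {X Z : Scheme.{u}} [X.Over (Spec (CommRingCat.of A))] {J : Ideal A} {z : Z ⟶ X}
    (h : FormalExist7.baseIdeal X J ≤ z.ker) :
    FSch.idealSpec A J ≤ (z ≫ (X ↘ Spec (CommRingCat.of A))).ker := by
  rw [← Scheme.IdealSheafData.map_ker]
  exact Scheme.IdealSheafData.le_map_iff_comap_le.2 h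

theorem isIso_unit_id {Z : Scheme.{u}} (F : Z.Modules) [F.IsQuasicoherent] :
    IsIso ((pullbackPushforwardAdjunction (𝟙 Z)).unit.app F) := by
  refine QCoh.isIso_unit_of_killed (𝟙 Z) F fun U a ha m => ?_
  rw [Scheme.Hom.ker_eq_bot_of_isIso] at ha
  rw [show a = 0 from ha, zero_smul]

variable {S S' : Scheme.{u}} [S.Over (Spec (CommRingCat.of A))] [S'.Over (Spec (CommRingCat.of A))] {g : S' ⟶ S}

theorem isIso_bcV {Z : Scheme.{u}} {z : Z ⟶ S} {z' : Z ⟶ S'} (h : IsPullback (𝟙 Z) z' z g)
    (F : Z.Modules) [F.IsQuasicoherent] : IsIso (AffBC.bcV h F) := by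
  haveI := isIso_unit_id F
  exact IsIso.comp_isIso' (Functor.map_isIso _ _) inferInstance

theorem bcMap_eq {Z : Scheme.{u}} {z : Z ⟶ S} {z' : Z ⟶ S'} (h : IsPullback (𝟙 Z) z' z g) (F : Z.Modules) :
    AffBC.bcMap h F = (Scheme.Modules.pullback g).map (AffBC.bcV h F) ≫
      (pullbackPushforwardAdjunction g).counit.app ((pushforward z').obj ((Scheme.Modules.pullback (𝟙 Z)).obj F)) :=
  (pullbackPushforwardAdjunction g).homEquiv_counit _ _ _

/-- The unit is an isomorphism at pushforwards from closed subschemes over which `g` is an isomorphism. -/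
theorem isIso_unit_push {Z : Scheme.{u}} {z : Z ⟶ S} {z' : Z ⟶ S'} (h : IsPullback (𝟙 Z) z' z g) [IsAffineHom z]
    (F : Z.Modules) [F.IsQuasicoherent] :
    IsIso ((pullbackPushforwardAdjunction g).unit.app ((pushforward z).obj F)) := by
  haveI := isIso_bcV h F
  haveI := AffBC.isIso_bcMap h F
  have e : (pullbackPushforwardAdjunction g).unit.app ((pushforward z).obj F) ≫
      (pushforward g).map (AffBC.bcMap h F) = AffBC.bcV h F :=
    ((pullbackPushforwardAdjunction g).homEquiv_unit _ _ _).symm.trans (Equiv.apply_symm_apply _ _)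
  haveI : IsIso ((pullbackPushforwardAdjunction g).unit.app ((pushforward z).obj F) ≫
      (pushforward g).map (AffBC.bcMap h F)) := e ▸ inferInstance
  exact IsIso.of_isIso_comp_right _ ((pushforward g).map (AffBC.bcMap h F))

theorem isIso_counit_push {Z : Scheme.{u}} {z : Z ⟶ S} {z' : Z ⟶ S'} (h : IsPullback (𝟙 Z) z' z g) [IsAffineHom z]
    (F : Z.Modules) [F.IsQuasicoherent] :
    IsIso ((pullbackPushforwardAdjunction g).counit.app ((pushforward z').obj ((Scheme.Modules.pullback (𝟙 Z)).obj F))) := by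
  haveI := isIso_bcV h F
  haveI := AffBC.isIso_bcMap h F
  haveI : IsIso ((Scheme.Modules.pullback g).map (AffBC.bcV h F) ≫
      (pullbackPushforwardAdjunction g).counit.app ((pushforward z').obj ((Scheme.Modules.pullback (𝟙 Z)).obj F))) :=
    bcMap_eq h F ▸ inferInstance
  exact IsIso.of_isIso_comp_left ((Scheme.Modules.pullback g).map (AffBC.bcV h F)) _

theorem ker_lift {Z : Scheme.{u}} {z : Z ⟶ S} [IsClosedImmersion z] {z' : Z ⟶ S'}
    (h : IsPullback (𝟙 Z) z' z g) : z'.ker = z.ker.comap g := by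
  rw [← h.isoPullback_hom_snd, Scheme.Hom.ker_comp_of_isIso]
  rw [← pullbackSymmetry_hom_comp_fst z g, Scheme.Hom.ker_comp_of_isIso]
  exact Scheme.IdealSheafData.ker_fst_of_isClosedImmersion z g

variable {J : Ideal A}

/-- The unit is an isomorphism on quasi-coherent modules killed by `J`. -/
theorem isIso_unit_of_killedBy (hg : IsIsoOver J g) (M : S.Modules) [M.IsQuasicoherent] (hM : Formal.KilledBy J M) :
    IsIso ((pullbackPushforwardAdjunction g).unit.app M) := by
  let z := (FormalExist7.baseIdeal S J).subschemeι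
  have hk : z.ker = FormalExist7.baseIdeal S J := Scheme.IdealSheafData.ker_subschemeι _
  obtain ⟨z', h⟩ := hg _ z (idealSpec_le hk.ge)
  haveI := QCoh.isIso_unit_of_killed z M (hk.symm ▸ killedByIdeal_baseIdeal hM)
  haveI := FittSheaf.isQuasicoherent_pullback z M
  haveI := isIso_unit_push h ((Scheme.Modules.pullback z).obj M)
  exact (NatTrans.isIso_app_iff_of_iso _ (asIso ((pullbackPushforwardAdjunction z).unit.app M))).2
    (isIso_unit_push h ((Scheme.Modules.pullback z).obj M))

/-- The counit is an isomorphism on quasi-coherent modules killed by `J`. -/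
theorem isIso_counit_of_killedBy (hcomp : g ≫ (S ↘ Spec (CommRingCat.of A)) = S' ↘ Spec (CommRingCat.of A))
    (hg : IsIsoOver J g) (M : S'.Modules) [M.IsQuasicoherent] (hM : Formal.KilledBy J M) :
    IsIso ((pullbackPushforwardAdjunction g).counit.app M) := by
  let z := (FormalExist7.baseIdeal S J).subschemeι
  have hk : z.ker = FormalExist7.baseIdeal S J := Scheme.IdealSheafData.ker_subschemeι _
  obtain ⟨z', h⟩ := hg _ z (idealSpec_le hk.ge)
  haveI : IsClosedImmersion z' := MorphismProperty.of_isPullback h (inferInstanceAs (IsClosedImmersion z))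
  have hk' : z'.ker = FormalExist7.baseIdeal S' J := by
    rw [ker_lift h, hk, FormalExist7.baseIdeal, FormalExist7.baseIdeal, ← hcomp,
      Scheme.IdealSheafData.comap_comp]
  haveI := QCoh.isIso_unit_of_killed z' M (hk'.symm ▸ killedByIdeal_baseIdeal hM)
  haveI := FittSheaf.isQuasicoherent_pullback z' M
  have hi := isIso_counit_push h ((Scheme.Modules.pullback z').obj M)
  let e : M ≅ (pushforward z').obj ((Scheme.Modules.pullback (𝟙 (FormalExist7.baseIdeal S J).subscheme)).obj
      ((Scheme.Modules.pullback z').obj M)) :=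
    asIso ((pullbackPushforwardAdjunction z').unit.app M) ≪≫
      (pushforward z').mapIso ((Scheme.Modules.pullbackId _).app _).symm
  exact (NatTrans.isIso_app_iff_of_iso _ e).2 hi

/-- The pushforward of a coherent module killed by `J` is one. -/
theorem push_of_killedBy [IsLocallyNoetherian S]
    (hcomp : g ≫ (S ↘ Spec (CommRingCat.of A)) = S' ↘ Spec (CommRingCat.of A))
    (hg : IsIsoOver J g) (M : S'.Modules) (hMc : Coh.IsCoh M) (hM : Formal.KilledBy J M) :
    Coh.IsCoh ((pushforward g).obj M) ∧ Formal.KilledBy J ((pushforward g).obj M) := by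
  haveI := hMc.1
  let z := (FormalExist7.baseIdeal S J).subschemeι
  have hk : z.ker = FormalExist7.baseIdeal S J := Scheme.IdealSheafData.ker_subschemeι _
  obtain ⟨z', h⟩ := hg _ z (idealSpec_le hk.ge)
  haveI : IsClosedImmersion z' := MorphismProperty.of_isPullback h (inferInstanceAs (IsClosedImmersion z))
  have hk' : z'.ker = FormalExist7.baseIdeal S' J := by
    rw [ker_lift h, hk, FormalExist7.baseIdeal, FormalExist7.baseIdeal, ← hcomp,
      Scheme.IdealSheafData.comap_comp]
  haveI := QCoh.isIso_unit_of_killed z' M (hk'.symm ▸ killedByIdeal_baseIdeal hM)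
  let e : (pushforward g).obj M ≅ (pushforward z).obj ((Scheme.Modules.pullback z').obj M) :=
    (pushforward g).mapIso (asIso ((pullbackPushforwardAdjunction z').unit.app M)) ≪≫
      (Scheme.Modules.pushforwardComp z' g).app _ ≪≫
      (Scheme.Modules.pushforwardCongr (h.w.symm.trans (Category.id_comp _))).app _
  have hF : Coh.IsCoh ((Scheme.Modules.pullback z').obj M) := FormalExist7.isCoh_pullbackMod z' hMc
  haveI := hF.1
  haveI := QCoh.isQuasicoherent_pushforward z ((Scheme.Modules.pullback z').obj M)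
  refine ⟨QCoh.isCoh_of_iso e.symm (FormalExist7.isCoh_pushforward z hF), ?_⟩
  exact FormalSys.killedBy_of_mono e.hom
    (FormalExist7.killedBy_of_killedByIdeal J hk.ge (K0Sub.killedByIdeal_push z _))

/-- Coherent formal modules descend along a morphism which is an isomorphism over the thickenings. -/
theorem exists_descent [IsLocallyNoetherian S] {I : Ideal A}
    (hcomp : g ≫ (S ↘ Spec (CommRingCat.of A)) = S' ↘ Spec (CommRingCat.of A))
    (hg : ∀ n : ℕ, IsIsoOver (I ^ (n + 1)) g) {G' : ℕᵒᵖ ⥤ S'.Modules} (hG' : Formal.IsCohFormal I G') :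
    Formal.IsCohFormal I (G' ⋙ pushforward g) ∧
      Nonempty ((G' ⋙ pushforward g) ⋙ Scheme.Modules.pullback g ≅ G') := by
  have hpush := fun n => push_of_killedBy hcomp (hg n) _ (hG'.1 n) (hG'.2.1 n)
  have hc : ∀ k : ℕᵒᵖ, IsIso ((pullbackPushforwardAdjunction g).counit.app (G'.obj k)) := fun k => by
    haveI := (hG'.1 k.unop).1
    exact isIso_counit_of_killedBy hcomp (hg k.unop) _ (hG'.2.1 k.unop)
  let ε : (G' ⋙ pushforward g) ⋙ Scheme.Modules.pullback g ≅ G' :=
    NatIso.ofComponents (fun k => @asIso _ _ _ _ _ (hc k))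
      (fun {k l} f => (pullbackPushforwardAdjunction g).counit.naturality (G'.map f))
  refine ⟨⟨fun n => (hpush n).1, fun n => (hpush n).2, fun n => ?_⟩, ⟨ε⟩⟩
  let tr := (G' ⋙ pushforward g).map (homOfLE (Nat.le_succ n)).op
  let L := Scheme.Modules.pullback g
  have hq := FormalSys.IsQuot.cokernelπ (I ^ (n + 1)) ((G' ⋙ pushforward g).obj (op (n + 1)))
  haveI := hq.epi
  obtain ⟨ψ, hψ⟩ := hq.exists_desc' tr (hpush n).2
  haveI hqP : (cokernel (Formal.smulFamily (I ^ (n + 1)) ((G' ⋙ pushforward g).obj (op (n + 1))))).IsQuasicoherent :=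
    (FormalFn.isCoh_cokernel_smulFamily (I ^ (n + 1)) (hpush (n + 1)).1).1
  haveI := (hpush n).1.1
  haveI := isIso_unit_of_killedBy (hg n) _ hq.killedBy
  haveI := isIso_unit_of_killedBy (hg n) _ (hpush n).2
  have h1 : FormalSys.IsQuot (I ^ (n + 1)) (L.map tr) := by
    have e : L.map tr = ε.hom.app (op (n + 1)) ≫ G'.map (homOfLE (Nat.le_succ n)).op ≫ ε.inv.app (op n) := by
      rw [← Category.assoc, ← ε.hom.naturality, Category.assoc, Iso.hom_inv_id_app, Category.comp_id]
      rfl
    rw [e]
    exact ((FormalSys.isQuot_map hG' (Nat.le_succ n)).comp_isIso _).isIso_comp _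
  obtain ⟨i, hi⟩ := (FormalExist7.isQuot_pullback g hcomp hq).exists_iso h1
  haveI := (FormalExist7.isQuot_pullback g hcomp hq).epi
  have h2 : L.map ψ = i.hom := by
    rw [← cancel_epi (L.map (cokernel.π (Formal.smulFamily (I ^ (n + 1)) ((G' ⋙ pushforward g).obj (op (n + 1)))))),
      ← L.map_comp, hψ, hi]
  haveI : IsIso (L.map ψ) := h2 ▸ inferInstance
  haveI : IsIso ψ := by
    have hn := (pullbackPushforwardAdjunction g).unit.naturality ψ
    haveI : IsIso ((pullbackPushforwardAdjunction g).unit.app _ ≫ (L ⋙ pushforward g).map ψ) := IsIso.comp_isIso' inferInstance (Functor.map_isIso (pushforward g) (L.map ψ))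
    have h3 : IsIso (ψ ≫ (pullbackPushforwardAdjunction g).unit.app _) := hn.symm ▸ this
    exact IsIso.of_isIso_comp_right ψ ((pullbackPushforwardAdjunction g).unit.app _)
  have h4 : FormalSys.IsQuot (I ^ (n + 1)) tr := hψ ▸ hq.comp_isIso ψ
  exact h4

end GrothLib.Algz7

namespace GrothLib.Algz7

open CategoryTheory AlgebraicGeometry Opposite

variable {A : Type u} [CommRing A] {S S' : Scheme.{u}} [S.Over (Spec (CommRingCat.of A))]
  [S'.Over (Spec (CommRingCat.of A))] {g : S' ⟶ S}

/-- Coherent formal modules with isomorphic pullbacks along a morphism which is an isomorphism over the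
thickenings are isomorphic. -/
theorem nonempty_iso_of_pullback_iso {I : Ideal A} (hg : ∀ n : ℕ, IsIsoOver (I ^ (n + 1)) g)
    {H G : ℕᵒᵖ ⥤ S.Modules} (hH : Formal.IsCohFormal I H) (hG : Formal.IsCohFormal I G)
    (θ : H ⋙ Scheme.Modules.pullback g ≅ G ⋙ Scheme.Modules.pullback g) : Nonempty (H ≅ G) := by
  let η : ∀ {K : ℕᵒᵖ ⥤ S.Modules}, Formal.IsCohFormal I K →
      (K ≅ (K ⋙ Scheme.Modules.pullback g) ⋙ Scheme.Modules.pushforward g) := fun {K} hK =>
    NatIso.ofComponents (fun k =>
      haveI := (hK.1 k.unop).1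
      @asIso _ _ _ _ _ (isIso_unit_of_killedBy (hg k.unop) (K.obj k) (hK.2.1 k.unop)))
      (fun {k l} f => (Scheme.Modules.pullbackPushforwardAdjunction g).unit.naturality (K.map f))
  exact ⟨η hH ≪≫ Functor.isoWhiskerRight θ _ ≪≫ (η hG).symm⟩

theorem isCohFormal_of_iso {I : Ideal A} {G H : ℕᵒᵖ ⥤ S.Modules} (e : G ≅ H) (hG : Formal.IsCohFormal I G) :
    Formal.IsCohFormal I H := by
  refine ⟨fun n => QCoh.isCoh_of_iso (e.app (op n)) (hG.1 n),
    fun n => FormalSys.killedBy_of_epi (e.hom.app (op n)) (hG.2.1 n), fun n => ?_⟩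
  have h : H.map (homOfLE (Nat.le_succ n)).op = e.inv.app (op (n + 1)) ≫
      G.map (homOfLE (Nat.le_succ n)).op ≫ e.hom.app (op n) := by
    rw [← Category.assoc, ← e.inv.naturality, Category.assoc, Iso.inv_hom_id_app, Category.comp_id]
  have hq : FormalSys.IsQuot (I ^ (n + 1)) (H.map (homOfLE (Nat.le_succ n)).op) :=
    h.symm ▸ ((FormalSys.isQuot_map hG (Nat.le_succ n)).comp_isIso _).isIso_comp _
  exact hq

end GrothLib.Algz7
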